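import Cfsg.Agent.SporadicRecognition.CosetChain
import Cfsg.Agent.SporadicB.AtlasPres.J1AAll
import Cfsg.Agent.SporadicB.AtlasPres.J1BAll

/-!
Two elements `a`, `b` of a group satisfying the relations of the standard presentation of the first Janko group
(and the consequences of it which present the subgroup `L₂(11)` generated by two conjugates of `b`) generate a
group of order at most 175560.
-/

set_option autoImplicit false
set_option maxRecDepth 100000

namespace Cfsg.Agent.SporadicB.AtlasPres.J1Bound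

open Cfsg.Agent.SporadicRecognition.CosetCert Cfsg.Agent.SporadicRecognition.CosetCertHyp
  Cfsg.Agent.SporadicRecognition.CosetChain

variable {G : Type*} [Group G]

/-- first generator of the subgroup `L₂(11)` -/
def sW (a b : G) : G := b * a * b⁻¹ * a * b * a * b * a * b⁻¹

/-- second generator of the subgroup `L₂(11)` -/
def tW (a b : G) : G := a * b⁻¹ * a * b * a * b⁻¹ * a * b⁻¹ * a * b * a

/-- The relations of `J₁` for two elements. -/
structure Rel (a b : G) : Prop where
  a2 : a * a = 1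
  b3 : b ^ 3 = 1
  ab : (a * b) ^ 7 = 1
  r4 : (a * b * (a * b * a * b⁻¹) ^ 3) ^ 5 = 1
  r5 : (a * b * (a * b * a * b⁻¹) ^ 6 * (a * b) ^ 2 * (a * b⁻¹) ^ 2) ^ 2 = 1
  st : (sW a b * tW a b) ^ 11 = 1
  sT : (sW a b * (tW a b)⁻¹) ^ 5 = 1
  r8 : (sW a b * tW a b * sW a b * (tW a b)⁻¹ * (sW a b)⁻¹ * (tW a b)⁻¹) ^ 2 = 1
  r9 : (sW a b * tW a b * sW a b * (tW a b)⁻¹ * (sW a b)⁻¹ * tW a b) ^ 3 = 1

theorem Rel.s3 {a b : G} (h : Rel a b) : sW a b ^ 3 = 1 := by
  have ha : a⁻¹ = a := inv_eq_of_mul_eq_one_left h.a2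
  have e : sW a b = (b * a * b⁻¹ * a) * b * (b * a * b⁻¹ * a)⁻¹ := by
    simp only [sW, mul_inv_rev, inv_inv, ha, mul_assoc]
  rw [e, conj_pow, h.b3, mul_one, mul_inv_cancel]

theorem Rel.t3 {a b : G} (h : Rel a b) : tW a b ^ 3 = 1 := by
  have ha : a⁻¹ = a := inv_eq_of_mul_eq_one_left h.a2
  have e : tW a b = (a * b⁻¹ * a * b * a) * b⁻¹ * (a * b⁻¹ * a * b * a)⁻¹ := by
    simp only [tW, mul_inv_rev, inv_inv, ha, mul_assoc]
  rw [e, conj_pow, inv_pow, h.b3, inv_one, mul_one, mul_inv_cancel]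

theorem Rel.map {H : Type*} [Group H] {a b : G} (h : Rel a b) (φ : G →* H) : Rel (φ a) (φ b) := by
  have hs : sW (φ a) (φ b) = φ (sW a b) := by simp [sW]
  have ht : tW (φ a) (φ b) = φ (tW a b) := by simp [tW]
  constructor
  · rw [← map_mul, h.a2, map_one]
  · rw [← map_pow, h.b3, map_one]
  · rw [← map_mul, ← map_pow, h.ab, map_one]
  · simp only [← map_mul, ← map_pow, ← map_inv, h.r4, map_one]
  · simp only [← map_mul, ← map_pow, ← map_inv, h.r5, map_one]
  · simp only [hs, ht, ← map_mul, ← map_pow, h.st, map_one]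
  · simp only [hs, ht, ← map_mul, ← map_pow, ← map_inv, h.sT, map_one]
  · simp only [hs, ht, ← map_mul, ← map_pow, ← map_inv, h.r8, map_one]
  · simp only [hs, ht, ← map_mul, ← map_pow, ← map_inv, h.r9, map_one]

/-- letters of the first certificate -/
def gA (a b : G) : ℕ → G
  | 0 => a
  | 1 => b
  | _ => b⁻¹

/-- letters of the second certificate -/
def gB (s t : G) : ℕ → G
  | 0 => s
  | 1 => s⁻¹
  | 2 => t
  | _ => t⁻¹

def invA : ℕ → ℕ
  | 0 => 0
  | 1 => 2
  | _ => 1

def invB : ℕ → ℕ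
  | 0 => 1
  | 1 => 0
  | 2 => 3
  | _ => 2

/-- relators of the first certificate -/
def exA : List Ex :=
  [.p (.g 1) 3,
   .p (.m (.g 0) (.g 1)) 7,
   .p (.m (.m (.g 0) (.g 1)) (.p (.m (.m (.m (.g 0) (.g 1)) (.g 0)) (.i (.g 1))) 3)) 5,
   .p (.m (.m (.m (.m (.g 0) (.g 1)) (.p (.m (.m (.m (.g 0) (.g 1)) (.g 0)) (.i (.g 1))) 6))
     (.p (.m (.g 0) (.g 1)) 2)) (.p (.m (.g 0) (.i (.g 1))) 2)) 2]

/-- relators of the second certificate -/
def exB : List Ex :=
  [.p (.g 0) 3,
   .p (.g 2) 3,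
   .p (.m (.g 0) (.g 2)) 11,
   .p (.m (.g 0) (.i (.g 2))) 5,
   .p (.m (.m (.m (.m (.m (.g 0) (.g 2)) (.g 0)) (.i (.g 2))) (.i (.g 0))) (.i (.g 2))) 2,
   .p (.m (.m (.m (.m (.m (.g 0) (.g 2)) (.g 0)) (.i (.g 2))) (.i (.g 0))) (.g 2)) 3]

def relsA : List (List ℕ) := exA.map (Ex.word invA)
def relsB : List (List ℕ) := exB.map (Ex.word invB)

theorem hinvA {a b : G} (h : Rel a b) : ∀ x, x < 3 → invA x < 3 ∧ gA a b x * gA a b (invA x) = 1 := by
  intro x hx
  interval_cases x
  · exact ⟨by decide, h.a2⟩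
  · exact ⟨by decide, mul_inv_cancel b⟩
  · exact ⟨by decide, inv_mul_cancel b⟩

theorem hinvB (s t : G) : ∀ x, x < 4 → invB x < 4 ∧ gB s t x * gB s t (invB x) = 1 := by
  intro x hx
  interval_cases x
  · exact ⟨by decide, mul_inv_cancel s⟩
  · exact ⟨by decide, inv_mul_cancel s⟩
  · exact ⟨by decide, mul_inv_cancel t⟩
  · exact ⟨by decide, inv_mul_cancel t⟩

/-- by definition (so that no unfolding lemma of `Ex.lt` is generated in this file) -/
theorem lt_pw (k n : ℕ) (a : Ex) : (Ex.p a n).lt k ↔ a.lt k := Iff.rfl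
theorem lt_iv (k : ℕ) (a : Ex) : (Ex.i a).lt k ↔ a.lt k := Iff.rfl

theorem exA_lt : ∀ e ∈ exA, e.lt 3 := by simp [exA, Ex.lt_g, Ex.lt_m, lt_pw, lt_iv]
theorem exB_lt : ∀ e ∈ exB, e.lt 4 := by simp [exB, Ex.lt_g, Ex.lt_m, lt_pw, lt_iv]

theorem relsA_ev {a b : G} (h : Rel a b) : ∀ r ∈ relsA, ev (gA a b) r = 1 := by
  intro r hr
  obtain ⟨e, he, rfl⟩ := List.mem_map.mp hr
  rw [Ex.ev_word (k := 3) (hinvA h) e (exA_lt e he)]
  simp only [exA, List.mem_cons, List.not_mem_nil, or_false] at he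
  rcases he with rfl | rfl | rfl | rfl
  · exact h.b3
  · exact h.ab
  · exact h.r4
  · exact h.r5

theorem relsB_ev {a b : G} (h : Rel a b) : ∀ r ∈ relsB, ev (gB (sW a b) (tW a b)) r = 1 := by
  intro r hr
  obtain ⟨e, he, rfl⟩ := List.mem_map.mp hr
  rw [Ex.ev_word (k := 4) (hinvB _ _) e (exB_lt e he)]
  simp only [exB, List.mem_cons, List.not_mem_nil, or_false] at he
  rcases he with rfl | rfl | rfl | rfl | rfl | rfl
  · exact h.s3
  · exact h.t3
  · exact h.st
  · exact h.sT
  · exact h.r8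
  · exact h.r9

theorem card_zpowers {x : G} {n : ℕ} (hn : 0 < n) (h : x ^ n = 1) :
    Finite (Subgroup.zpowers x) ∧ Nat.card (Subgroup.zpowers x) ≤ n := by
  have hfin : IsOfFinOrder x := isOfFinOrder_iff_pow_eq_one.2 ⟨n, hn, h⟩
  refine ⟨Nat.finite_of_card_ne_zero ?_, ?_⟩
  · rw [Nat.card_zpowers]
    exact hfin.orderOf_pos.ne'
  · rw [Nat.card_zpowers]
    exact orderOf_le_of_pow_eq_one hn h

/-- the subgroup generated by `s` and `t` -/
theorem cardB {a b : G} (h : Rel a b) :
    Finite (Subgroup.closure (gB (sW a b) (tW a b) '' {x | x < 4})) ∧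
      Nat.card (Subgroup.closure (gB (sW a b) (tW a b) '' {x | x < 4})) ≤ 60 * 11 := by
  obtain ⟨hf, hc⟩ := card_zpowers (by norm_num) h.st
  have := card_step J1BData.C (gB (sW a b) (tW a b)) relsB [[0, 2]] (Subgroup.zpowers (sW a b * tW a b))
    (fun x hx => by
      have hx' : x < 4 := hx
      have h1 := hinvB (sW a b) (tW a b) x hx'
      interval_cases x <;> exact h1)
    (fun r hr _ => relsB_ev h r hr)
    (fun s hs _ => by
      rw [List.mem_singleton] at hs
      subst hs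
      simp only [ev_cons, ev_nil, mul_one]
      exact Subgroup.mem_zpowers _)
    (by decide +kernel) J1BAll.part hf
  exact ⟨this.1, this.2.trans (Nat.mul_le_mul_left _ hc)⟩

theorem closure_gA (a b : G) : Subgroup.closure (gA a b '' {x | x < 3}) = Subgroup.closure {a, b} := by
  apply le_antisymm
  · rw [Subgroup.closure_le]
    rintro _ ⟨x, hx, rfl⟩
    have hx' : x < 3 := hx
    interval_cases x
    · exact Subgroup.subset_closure (by simp [gA])
    · exact Subgroup.subset_closure (by simp [gA])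
    · exact Subgroup.inv_mem _ (Subgroup.subset_closure (by simp))
  · rw [Subgroup.closure_le]
    intro x hx
    rcases hx with rfl | rfl
    · exact Subgroup.subset_closure ⟨0, by norm_num, rfl⟩
    · exact Subgroup.subset_closure ⟨1, by norm_num, rfl⟩

/-- Two elements satisfying the relations generate a group of order at most 175560. -/
theorem card_le {a b : G} (h : Rel a b) :
    Finite (Subgroup.closure {a, b}) ∧ Nat.card (Subgroup.closure {a, b}) ≤ 175560 := by
  obtain ⟨hf, hc⟩ := cardB h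
  have := card_step J1AData.C (gA a b) relsA [[1,0,2,0,1,0,1,0,2], [0,2,0,1,0,2,0,2,0,1,0]]
    (Subgroup.closure (gB (sW a b) (tW a b) '' {x | x < 4}))
    (fun x hx => by
      have hx' : x < 3 := hx
      have h1 := hinvA h x hx'
      interval_cases x <;> exact h1)
    (fun r hr _ => relsA_ev h r hr)
    (fun s hs _ => by
      simp only [List.mem_cons, List.not_mem_nil, or_false] at hs
      rcases hs with rfl | rfl
      · refine Subgroup.subset_closure ⟨0, by norm_num, ?_⟩
        simp only [gB, sW, gA, ev_cons, ev_nil, mul_one, mul_assoc]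
      · refine Subgroup.subset_closure ⟨2, by norm_num, ?_⟩
        simp only [gB, tW, gA, ev_cons, ev_nil, mul_one, mul_assoc])
    (by decide +kernel) J1AAll.part hf
  change Finite (Subgroup.closure (gA a b '' {x | x < 3})) ∧
    Nat.card (Subgroup.closure (gA a b '' {x | x < 3})) ≤ _ at this
  rw [closure_gA] at this
  exact ⟨this.1, this.2.trans (le_trans (Nat.mul_le_mul_left _ hc) (by norm_num))⟩

end Cfsg.Agent.SporadicB.AtlasPres.J1Bound
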