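import Mathlib

/-!
Recognition of a simple group by relations: if the relations bound the order of the group generated by the
pairs `(a, a')`, `(b, b')` by the order of the simple group generated by `a'`, `b'`, then `a`, `b` generate a
copy of that simple group (if `a ≠ 1`).
-/

set_option autoImplicit false

namespace Cfsg.Agent.SporadicB.AtlasPres.Transfer

theorem closure_map_pair {G H : Type*} [Group G] [Group H] (φ : G →* H) (a b : G) :
    (Subgroup.closure {a, b}).map φ = Subgroup.closure {φ a, φ b} := by
  rw [MonoidHom.map_closure, Set.image_pair]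

theorem equiv_of_pairs {G J : Type*} [Group G] [Group J] [hJ : IsSimpleGroup J] [Finite J]
    {a b : G} {a' b' : J} (hgen : Subgroup.closure {a', b'} = ⊤)
    (hfin : Finite (Subgroup.closure {((a, a') : G × J), (b, b')}))
    (hle : Nat.card (Subgroup.closure {((a, a') : G × J), (b, b')}) ≤ Nat.card J) (hne : a ≠ 1) :
    Nonempty (Subgroup.closure {a, b} ≃* J) := by
  set D : Subgroup (G × J) := Subgroup.closure {((a, a') : G × J), (b, b')} with hD
  have h1 : D.map (MonoidHom.fst G J) = Subgroup.closure {a, b} := closure_map_pair _ _ _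
  have h2 : D.map (MonoidHom.snd G J) = ⊤ := by rw [hD, closure_map_pair]; exact hgen
  -- second projection
  let p2 : D →* J := (MonoidHom.snd G J).comp D.subtype
  have hs2 : Function.Surjective p2 := by
    intro j
    have hj : j ∈ D.map (MonoidHom.snd G J) := by rw [h2]; trivial
    obtain ⟨d, hd, hdj⟩ := hj
    exact ⟨⟨d, hd⟩, hdj⟩
  have hb2 : Function.Bijective p2 := by
    have hcard : Nat.card D = Nat.card J := le_antisymm hle (Nat.card_le_card_of_surjective p2 hs2)
    exact (Nat.bijective_iff_surjective_and_card p2).2 ⟨hs2, hcard⟩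
  let e2 : D ≃* J := MulEquiv.ofBijective p2 hb2
  have : Nontrivial D := e2.toEquiv.nontrivial
  have hDs : IsSimpleGroup D :=
    IsSimpleGroup.isSimpleGroup_of_surjective (f := e2.symm.toMonoidHom) (hf := e2.symm.surjective)
  -- first projection
  let p1 : D →* G := (MonoidHom.fst G J).comp D.subtype
  have hr1 : p1.range = Subgroup.closure {a, b} := by
    rw [← h1, MonoidHom.range_comp, Subgroup.range_subtype]
  have hinj : Function.Injective p1 := by
    rw [← MonoidHom.ker_eq_bot_iff]
    rcases hDs.eq_bot_or_eq_top_of_normal p1.ker inferInstance with h0 | h0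
    · exact h0
    · exfalso
      apply hne
      have hmem : ((a, a') : G × J) ∈ D := Subgroup.subset_closure (by simp)
      have : (⟨(a, a'), hmem⟩ : D) ∈ p1.ker := by rw [h0]; trivial
      exact this
  exact ⟨((MulEquiv.subgroupCongr hr1).symm.trans (MonoidHom.ofInjective hinj).symm).trans e2⟩

theorem simple_of_pairs {G J : Type*} [Group G] [Group J] (hJ : IsSimpleGroup J) [Finite J]
    {a b : G} {a' b' : J} (hgen : Subgroup.closure {a', b'} = ⊤)
    (hfin : Finite (Subgroup.closure {((a, a') : G × J), (b, b')}))
    (hle : Nat.card (Subgroup.closure {((a, a') : G × J), (b, b')}) ≤ Nat.card J) (hne : a ≠ 1) :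
    IsSimpleGroup (Subgroup.closure {a, b}) ∧ Nat.card (Subgroup.closure {a, b}) = Nat.card J := by
  obtain ⟨e⟩ := equiv_of_pairs hgen hfin hle hne
  refine ⟨?_, Nat.card_congr e.toEquiv⟩
  have : Nontrivial (Subgroup.closure {a, b}) := e.toEquiv.nontrivial
  exact IsSimpleGroup.isSimpleGroup_of_surjective (f := e.symm.toMonoidHom) (hf := e.symm.surjective)

end Cfsg.Agent.SporadicB.AtlasPres.Transfer
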