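import Cfsg.Agent.SporadicB.J1.Main
import Cfsg.Agent.SporadicB.AtlasPres.J1Bound
import Cfsg.Agent.SporadicB.AtlasPres.Transfer

/-!
Recognition of the first Janko group by relations for two elements.
-/

set_option autoImplicit false

namespace Cfsg.Agent.SporadicB.AtlasPres.J1Rec

open Cfsg.Agent.SporadicB.J1.Mat Cfsg.Agent.SporadicB.J1.Data Cfsg.Agent.SporadicB.J1.Main
  Cfsg.Agent.SporadicB.AtlasPres.J1Bound

theorem Rel.prod {G H : Type*} [Group G] [Group H] {a b : G} {c d : H} (h : Rel a b) (k : Rel c d) :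
    Rel ((a, c) : G × H) (b, d) := by
  have hs : sW ((a, c) : G × H) (b, d) = (sW a b, sW c d) := rfl
  have ht : tW ((a, c) : G × H) (b, d) = (tW a b, tW c d) := rfl
  constructor
  · exact Prod.ext h.a2 k.a2
  · exact Prod.ext h.b3 k.b3
  · exact Prod.ext h.ab k.ab
  · exact Prod.ext h.r4 k.r4
  · exact Prod.ext h.r5 k.r5
  · exact Prod.ext h.st k.st
  · exact Prod.ext h.sT k.sT
  · exact Prod.ext h.r8 k.r8
  · exact Prod.ext h.r9 k.r9

/-- standard generators of the matrix group -/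
noncomputable def a0 : Spor.J1 := ev [0, 3, 0, 1, 2, 1, 0, 0]
noncomputable def b0 : Spor.J1 := ev [2, 1, 1, 2, 1, 1]

def cA : Nat := 9593472782777584891041388788665432629157438552992810100377
def cB0 : Nat := 7919969556223102933082171933683427623568199152872647057528
def cBi : Nat := 7212524988108086343377486995795447254202800717054396945528
def cS : Nat := 9085042369284514128041834997913278318651506003147642851378
def cSi : Nat := 10229899528213757940205822061332736860753239580796083336258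
def cT : Nat := 40881523947643928953687681476876152141623892528691957557877
def cTi : Nat := 41003836247541519903187591097000203025504112133612844245317

theorem rep_a0 : Rep a0 cA := by
  have h := rep_ev [0, 3, 0, 1, 2, 1, 0, 0]
  rwa [show evC [0, 3, 0, 1, 2, 1, 0, 0] = cA by decide +kernel] at h

theorem rep_b0 : Rep b0 cB0 := by
  have h := rep_ev [2, 1, 1, 2, 1, 1]
  rwa [show evC [2, 1, 1, 2, 1, 1] = cB0 by decide +kernel] at h

theorem rep_b0i : Rep b0⁻¹ cBi := rep_b0.inv (by decide +kernel)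

/-- words in `a0`, `b0`, `b0⁻¹` -/
noncomputable def ew : List Nat → Spor.J1
  | [] => 1
  | 0 :: w => a0 * ew w
  | 1 :: w => b0 * ew w
  | _ :: w => b0⁻¹ * ew w

def ewC : List Nat → Nat
  | [] => cI
  | 0 :: w => mulC cA (ewC w)
  | 1 :: w => mulC cB0 (ewC w)
  | _ :: w => mulC cBi (ewC w)

theorem rep_ew : ∀ w : List Nat, Rep (ew w) (ewC w)
  | [] => Rep.one
  | 0 :: w => rep_a0.mul (rep_ew w)
  | 1 :: w => rep_b0.mul (rep_ew w)
  | (_ + 2) :: w => rep_b0i.mul (rep_ew w)

theorem ew_mem : ∀ w : List Nat, ew w ∈ Subgroup.closure {a0, b0}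
  | [] => Subgroup.one_mem _
  | 0 :: w => Subgroup.mul_mem _ (Subgroup.subset_closure (by simp)) (ew_mem w)
  | 1 :: w => Subgroup.mul_mem _ (Subgroup.subset_closure (by simp)) (ew_mem w)
  | (_ + 2) :: w => Subgroup.mul_mem _ (Subgroup.inv_mem _ (Subgroup.subset_closure (by simp))) (ew_mem w)

theorem sW_eq : sW a0 b0 = ew [1, 0, 2, 0, 1, 0, 1, 0, 2] := by
  simp only [sW, ew, mul_one, mul_assoc]

theorem tW_eq : tW a0 b0 = ew [0, 2, 0, 1, 0, 2, 0, 2, 0, 1, 0] := by
  simp only [tW, ew, mul_one, mul_assoc]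

theorem rep_s : Rep (sW a0 b0) cS := by
  have h := rep_ew [1, 0, 2, 0, 1, 0, 1, 0, 2]
  rw [sW_eq]
  rwa [show ewC [1, 0, 2, 0, 1, 0, 1, 0, 2] = cS by decide +kernel] at h

theorem rep_t : Rep (tW a0 b0) cT := by
  have h := rep_ew [0, 2, 0, 1, 0, 2, 0, 2, 0, 1, 0]
  rw [tW_eq]
  rwa [show ewC [0, 2, 0, 1, 0, 2, 0, 2, 0, 1, 0] = cT by decide +kernel] at h

theorem rep_si : Rep (sW a0 b0)⁻¹ cSi := rep_s.inv (by decide +kernel)
theorem rep_ti : Rep (tW a0 b0)⁻¹ cTi := rep_t.inv (by decide +kernel)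

theorem rel0 : Rel a0 b0 := by
  constructor
  · exact (rep_a0.mul rep_a0).eq Rep.one (by decide +kernel)
  · exact (rep_b0.pow 3).eq Rep.one (by decide +kernel)
  · exact ((rep_a0.mul rep_b0).pow 7).eq Rep.one (by decide +kernel)
  · exact (((rep_a0.mul rep_b0).mul ((((rep_a0.mul rep_b0).mul rep_a0).mul rep_b0i).pow 3)).pow 5).eq Rep.one
      (by decide +kernel)
  · exact (((((rep_a0.mul rep_b0).mul ((((rep_a0.mul rep_b0).mul rep_a0).mul rep_b0i).pow 6)).mul
      ((rep_a0.mul rep_b0).pow 2)).mul ((rep_a0.mul rep_b0i).pow 2)).pow 2).eq Rep.one (by decide +kernel)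
  · exact ((rep_s.mul rep_t).pow 11).eq Rep.one (by decide +kernel)
  · exact ((rep_s.mul rep_ti).pow 5).eq Rep.one (by decide +kernel)
  · exact ((((((rep_s.mul rep_t).mul rep_s).mul rep_ti).mul rep_si).mul rep_ti).pow 2).eq Rep.one
      (by decide +kernel)
  · exact ((((((rep_s.mul rep_t).mul rep_s).mul rep_ti).mul rep_si).mul rep_t).pow 3).eq Rep.one
      (by decide +kernel)

theorem X_eq : X = ew [0, 2, 0, 2, 0, 1, 0, 2, 0, 1, 0, 2, 0, 1, 0, 2, 0, 2, 0, 1, 0, 1, 0, 2, 0, 2, 0, 1] :=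
  repX.eq (rep_ew _) (by decide +kernel)

theorem Y_eq : Y = ew [0, 2, 0, 2, 0, 1, 0, 1, 0, 2, 0, 2, 0, 1, 0, 1, 0, 2, 0, 1, 0, 2, 0, 2, 0, 1, 0, 2, 0, 1, 0, 2, 0, 1, 0, 2, 0, 1, 0, 2, 0, 2, 0, 1, 0] :=
  repY.eq (rep_ew _) (by decide +kernel)

theorem closure_eq_top : Subgroup.closure {a0, b0} = ⊤ := by
  rw [eq_top_iff, ← data.hgen, Subgroup.closure_le]
  intro x hx
  rcases hx with rfl | rfl
  · change X ∈ _
    rw [X_eq]; exact ew_mem _
  · change Y ∈ _
    rw [Y_eq]; exact ew_mem _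

/-- Two elements satisfying the relations, the first one not trivial, generate a simple group of order 175560. -/
theorem isJ1_closure {G : Type*} [Group G] {a b : G} (h : Rel a b) (ha : a ≠ 1) :
    Cfsg.IsJ1 (Subgroup.closure {a, b}) := by
  obtain ⟨hs, hc⟩ := isJ1
  obtain ⟨hf, hle⟩ := card_le (Rel.prod h rel0)
  have : Finite Spor.J1 := Nat.finite_of_card_ne_zero (by rw [hc]; norm_num)
  rw [← hc] at hle
  have := Transfer.simple_of_pairs hs closure_eq_top hf hle ha
  rw [hc] at this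
  exact this

/-- All such groups are isomorphic to the matrix group of Janko. -/
theorem nonempty_mulEquiv {G : Type*} [Group G] {a b : G} (h : Rel a b) (ha : a ≠ 1) :
    Nonempty (Subgroup.closure {a, b} ≃* Spor.J1) := by
  obtain ⟨hs, hc⟩ := isJ1
  obtain ⟨hf, hle⟩ := card_le (Rel.prod h rel0)
  have : Finite Spor.J1 := Nat.finite_of_card_ne_zero (by rw [hc]; norm_num)
  rw [← hc] at hle
  exact Transfer.equiv_of_pairs closure_eq_top hf hle ha

end Cfsg.Agent.SporadicB.AtlasPres.J1Rec
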