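import Cfsg.Agent.SporadicRecognition.CosetChain
import Cfsg.Agent.SporadicB.AtlasPres.M11AAll

/-!
Two elements `a`, `b` of a group satisfying the relations of the standard presentation of the Mathieu group `M₁₁`
generate a group of order at most 7920.
-/

set_option autoImplicit false
set_option maxRecDepth 100000

namespace Cfsg.Agent.SporadicB.AtlasPres.M11Bound

open Cfsg.Agent.SporadicRecognition.CosetCert Cfsg.Agent.SporadicRecognition.CosetCertHyp
  Cfsg.Agent.SporadicRecognition.CosetChain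

variable {G : Type*} [Group G]

/-- The relations of `M₁₁` for two elements. -/
structure Rel (a b : G) : Prop where
  a2 : a * a = 1
  b4 : b ^ 4 = 1
  ab : (a * b) ^ 11 = 1
  abb : (a * b * b) ^ 6 = 1
  r5 : a * b * a * b * a * b⁻¹ * a * b * a * b * b * a * b⁻¹ * a * b * a * b⁻¹ * a * b⁻¹ = 1

theorem Rel.map {H : Type*} [Group H] {a b : G} (h : Rel a b) (φ : G →* H) : Rel (φ a) (φ b) := by
  constructor
  · rw [← map_mul, h.a2, map_one]
  · rw [← map_pow, h.b4, map_one]
  · rw [← map_mul, ← map_pow, h.ab, map_one]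
  · simp only [← map_mul, ← map_pow, h.abb, map_one]
  · simp only [← map_mul, ← map_inv, h.r5, map_one]

/-- letters of the certificate -/
def gA (a b : G) : ℕ → G
  | 0 => a
  | 1 => b
  | _ => b⁻¹

def invA : ℕ → ℕ
  | 0 => 0
  | 1 => 2
  | _ => 1

/-- relators of the certificate -/
def exA : List Ex :=
  [.p (.g 1) 4,
   .p (.m (.g 0) (.g 1)) 11,
   .p (.m (.m (.g 0) (.g 1)) (.g 1)) 6,
   .m (.m (.m (.m (.m (.m (.m (.m (.m (.m (.m (.m (.m (.m (.m (.m (.m (.m (.g 0) (.g 1)) (.g 0)) (.g 1)) (.g 0))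
     (.i (.g 1))) (.g 0)) (.g 1)) (.g 0)) (.g 1)) (.g 1)) (.g 0)) (.i (.g 1))) (.g 0)) (.g 1)) (.g 0)) (.i (.g 1)))
     (.g 0)) (.i (.g 1))]

def relsA : List (List ℕ) := exA.map (Ex.word invA)

theorem hinvA {a b : G} (h : Rel a b) : ∀ x, x < 3 → invA x < 3 ∧ gA a b x * gA a b (invA x) = 1 := by
  intro x hx
  interval_cases x
  · exact ⟨by decide, h.a2⟩
  · exact ⟨by decide, mul_inv_cancel b⟩
  · exact ⟨by decide, inv_mul_cancel b⟩

/-- by definition (so that no unfolding lemma of `Ex.lt` is generated in this file) -/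
theorem lt_pw (k n : ℕ) (a : Ex) : (Ex.p a n).lt k ↔ a.lt k := Iff.rfl
theorem lt_iv (k : ℕ) (a : Ex) : (Ex.i a).lt k ↔ a.lt k := Iff.rfl

theorem exA_lt : ∀ e ∈ exA, e.lt 3 := by simp [exA, Ex.lt_g, Ex.lt_m, lt_pw, lt_iv]

theorem relsA_ev {a b : G} (h : Rel a b) : ∀ r ∈ relsA, ev (gA a b) r = 1 := by
  intro r hr
  obtain ⟨e, he, rfl⟩ := List.mem_map.mp hr
  rw [Ex.ev_word (k := 3) (hinvA h) e (exA_lt e he)]
  simp only [exA, List.mem_cons, List.not_mem_nil, or_false] at he
  rcases he with rfl | rfl | rfl | rfl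
  · exact h.b4
  · exact h.ab
  · exact h.abb
  · exact h.r5

theorem card_zpowers {x : G} {n : ℕ} (hn : 0 < n) (h : x ^ n = 1) :
    Finite (Subgroup.zpowers x) ∧ Nat.card (Subgroup.zpowers x) ≤ n := by
  have hfin : IsOfFinOrder x := isOfFinOrder_iff_pow_eq_one.2 ⟨n, hn, h⟩
  refine ⟨Nat.finite_of_card_ne_zero ?_, ?_⟩
  · rw [Nat.card_zpowers]
    exact hfin.orderOf_pos.ne'
  · rw [Nat.card_zpowers]
    exact orderOf_le_of_pow_eq_one hn h

theorem closure_gA (a b : G) : Subgroup.closure (gA a b '' {x | x < 3}) = Subgroup.closure {a, b} := by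
  apply le_antisymm
  · rw [Subgroup.closure_le]
    rintro _ ⟨x, hx, rfl⟩
    have hx' : x < 3 := hx
    interval_cases x
    · exact Subgroup.subset_closure (by simp [gA])
    · exact Subgroup.subset_closure (by simp [gA])
    · exact Subgroup.inv_mem _ (Subgroup.subset_closure (by simp))
  · rw [Subgroup.closure_le]
    intro x hx
    rcases hx with rfl | rfl
    · exact Subgroup.subset_closure ⟨0, by norm_num, rfl⟩
    · exact Subgroup.subset_closure ⟨1, by norm_num, rfl⟩

/-- Two elements satisfying the relations generate a group of order at most 7920. -/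
theorem card_le {a b : G} (h : Rel a b) :
    Finite (Subgroup.closure {a, b}) ∧ Nat.card (Subgroup.closure {a, b}) ≤ 7920 := by
  obtain ⟨hf, hc⟩ := card_zpowers (by norm_num) h.ab
  have := card_step M11AData.C (gA a b) relsA [[0, 1]] (Subgroup.zpowers (a * b))
    (fun x hx => by
      have hx' : x < 3 := hx
      have h1 := hinvA h x hx'
      interval_cases x <;> exact h1)
    (fun r hr _ => relsA_ev h r hr)
    (fun s hs _ => by
      rw [List.mem_singleton] at hs
      subst hs
      simp only [ev_cons, ev_nil, mul_one]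
      exact Subgroup.mem_zpowers _)
    (by decide +kernel) M11AAll.part hf
  change Finite (Subgroup.closure (gA a b '' {x | x < 3})) ∧
    Nat.card (Subgroup.closure (gA a b '' {x | x < 3})) ≤ _ at this
  rw [closure_gA] at this
  exact ⟨this.1, this.2.trans (le_trans (Nat.mul_le_mul_left _ hc) (by norm_num))⟩

end Cfsg.Agent.SporadicB.AtlasPres.M11Bound
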