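import Cfsg.Prelude.Def_Sporadic
import Cfsg.Agent.SporadicA.DegreePrime
import Cfsg.Agent.SporadicB.AtlasPres.M11Bound
import Cfsg.Agent.SporadicB.AtlasPres.Transfer

/-!
Recognition of the Mathieu group `M₁₁` by relations for two elements.
-/

set_option autoImplicit false

namespace Cfsg.Agent.SporadicB.AtlasPres.M11Rec

open Cfsg.Agent.SporadicB.AtlasPres.M11Bound

theorem Rel.prod {G H : Type*} [Group G] [Group H] {a b : G} {c d : H} (h : Rel a b) (k : Rel c d) :
    Rel ((a, c) : G × H) (b, d) := by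
  constructor
  · exact Prod.ext h.a2 k.a2
  · exact Prod.ext h.b4 k.b4
  · exact Prod.ext h.ab k.ab
  · exact Prod.ext h.abb k.abb
  · exact Prod.ext h.r5 k.r5

/-- one step of a stabiliser chain -/
theorem chain_step {α : Type*} [Finite α] (G : Subgroup (Equiv.Perm α)) (x : α) (ws : List (Equiv.Perm α))
    (hws : ∀ w ∈ ws, w ∈ G) (hnd : (ws.map fun w => w x).Nodup) :
    ws.length * Nat.card (G ⊓ MulAction.stabilizer (Equiv.Perm α) x : Subgroup (Equiv.Perm α)) ≤ Nat.card G := by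
  let f : Fin ws.length × (G ⊓ MulAction.stabilizer (Equiv.Perm α) x : Subgroup (Equiv.Perm α)) → G :=
    fun p => ⟨ws.get p.1 * p.2.1, G.mul_mem (hws _ (List.get_mem _ _)) p.2.2.1⟩
  have hf : Function.Injective f := by
    rintro ⟨i, h, hh⟩ ⟨j, k, hk⟩ hij
    have h1 : ws.get i * h = ws.get j * k := congrArg Subtype.val hij
    have hx : h x = x := hh.2
    have kx : k x = x := hk.2
    have h2 : ws.get i x = ws.get j x := by
      have := congrArg (fun σ : Equiv.Perm α => σ x) h1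
      simpa [Equiv.Perm.mul_apply, hx, kx] using this
    have h3 : i = j := by
      have hlen : (ws.map fun w => w x).length = ws.length := List.length_map _
      have h4 := (List.nodup_iff_injective_get.1 hnd)
      have h5 : (⟨i, by rw [hlen]; exact i.2⟩ : Fin (ws.map fun w => w x).length) = ⟨j, by rw [hlen]; exact j.2⟩ := by
        apply h4
        simpa using h2
      exact Fin.ext (by simpa using congrArg Fin.val h5)
    subst h3
    have h6 : h = k := mul_left_cancel h1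
    subst h6
    rfl
  have := Nat.card_le_card_of_injective f hf
  rwa [Nat.card_prod, Nat.card_eq_fintype_card (α := Fin ws.length), Fintype.card_fin] at this

def pa : Equiv.Perm (Fin 11) :=
  ⟨![10, 2, 1, 3, 9, 5, 7, 6, 8, 4, 0], ![10, 2, 1, 3, 9, 5, 7, 6, 8, 4, 0], by decide, by decide⟩

def pb : Equiv.Perm (Fin 11) :=
  ⟨![0, 10, 2, 1, 3, 9, 5, 7, 6, 8, 4], ![0, 3, 2, 4, 10, 6, 8, 7, 9, 5, 1], by decide, by decide⟩

theorem rel0 : Rel pa pb := by
  constructor <;> decide +kernel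

/-- words in the two permutations -/
def ew : List Nat → Equiv.Perm (Fin 11)
  | [] => 1
  | 0 :: w => pa * ew w
  | 1 :: w => pb * ew w
  | _ :: w => pb⁻¹ * ew w

theorem ew_mem : ∀ w : List Nat, ew w ∈ Subgroup.closure {pa, pb}
  | [] => Subgroup.one_mem _
  | 0 :: w => Subgroup.mul_mem _ (Subgroup.subset_closure (by simp)) (ew_mem w)
  | 1 :: w => Subgroup.mul_mem _ (Subgroup.subset_closure (by simp)) (ew_mem w)
  | (_ + 2) :: w => Subgroup.mul_mem _ (Subgroup.inv_mem _ (Subgroup.subset_closure (by simp))) (ew_mem w)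

def t0 : List (List Nat) :=
  [[], [2, 0], [0, 2, 0], [1, 1, 0], [1, 0], [2, 0, 1, 0], [1, 1, 0, 1, 0], [0, 1, 1, 0, 1, 0], [1, 0, 1, 0],
   [0, 1, 0], [0]]

def t1 : List (List Nat) :=
  [[], [0, 1, 0, 2, 0, 2, 0], [2], [1, 1], [2, 0, 1, 1, 0, 1, 1, 0], [1, 1, 0, 1, 1, 0, 1, 1, 0],
   [0, 1, 0, 1, 0, 2, 0, 2], [1, 0, 1, 1, 0, 1, 1, 0], [0, 1, 1, 0, 1, 1, 0], [1]]

def t2 : List (List Nat) :=
  [[], [2, 0, 1, 0, 1, 0, 2, 0], [0, 1, 1, 0, 2, 0, 1, 0, 1, 0, 1, 1, 0], [0, 2, 0, 1, 0, 2, 0, 1, 0],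
   [2, 0, 2, 0, 1, 0, 2, 0, 1, 0, 2], [1, 0, 1, 1, 0, 1, 1, 0, 1], [0, 1, 0, 2, 0, 2, 0, 1],
   [1, 0, 2, 0, 1, 0, 2, 0, 1, 0, 1], [1, 0, 1, 0, 1, 0, 2, 0, 1, 1]]

def t3 : List (List Nat) :=
  [[], [2, 0, 1, 0, 2, 0, 1, 1, 0, 2, 0, 1, 0, 1, 0, 1, 1], [2, 0, 2, 0, 2, 0, 1, 0, 1, 1, 0, 1, 0, 2, 0, 2],
   [1, 0, 1, 0, 2, 0, 1, 1, 0, 2, 0, 1, 0, 1, 0, 1], [1, 1, 0, 2, 0, 2, 0, 1, 0, 1, 1, 0, 1, 0, 2, 0, 1],
   [1, 0, 1, 0, 1, 0, 1, 0, 2, 0, 2, 0, 2, 0, 1, 1], [1, 1, 0, 2, 0, 1, 0, 1, 0, 1, 1, 0, 2, 0, 2, 0, 1, 0, 1, 1],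
   [1, 1, 0, 1, 0, 1, 0, 1, 0, 2, 0, 2, 0, 2, 0, 2]]

theorem fix1 : ∀ w ∈ t1, ew w 0 = 0 := by decide +kernel
theorem fix2 : ∀ w ∈ t2, ew w 0 = 0 ∧ ew w 1 = 1 := by decide +kernel
theorem fix3 : ∀ w ∈ t3, ew w 0 = 0 ∧ ew w 1 = 1 ∧ ew w 2 = 2 := by decide +kernel
theorem nd0 : ((t0.map ew).map fun w => w 0).Nodup := by decide +kernel
theorem nd1 : ((t1.map ew).map fun w => w 1).Nodup := by decide +kernel
theorem nd2 : ((t2.map ew).map fun w => w 2).Nodup := by decide +kernel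
theorem nd3 : ((t3.map ew).map fun w => w 3).Nodup := by decide +kernel

/-- point stabilisers in the symmetric group -/
abbrev St (i : Fin 11) : Subgroup (Equiv.Perm (Fin 11)) := MulAction.stabilizer (Equiv.Perm (Fin 11)) i

/-- the stabiliser chain -/
abbrev K0 : Subgroup (Equiv.Perm (Fin 11)) := Subgroup.closure {pa, pb}
abbrev K1 : Subgroup (Equiv.Perm (Fin 11)) := K0 ⊓ St 0
abbrev K2 : Subgroup (Equiv.Perm (Fin 11)) := K1 ⊓ St 1
abbrev K3 : Subgroup (Equiv.Perm (Fin 11)) := K2 ⊓ St 2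
abbrev K4 : Subgroup (Equiv.Perm (Fin 11)) := K3 ⊓ St 3

theorem le_card : 7920 ≤ Nat.card (Subgroup.closure {pa, pb}) := by
  have s0 : (t0.map ew).length * Nat.card K1 ≤ Nat.card K0 := chain_step K0 0 (t0.map ew)
    (by
      intro w hw
      obtain ⟨v, -, rfl⟩ := List.mem_map.1 hw
      exact ew_mem v) nd0
  have s1 : (t1.map ew).length * Nat.card K2 ≤ Nat.card K1 := chain_step K1 1 (t1.map ew)
    (by
      intro w hw
      obtain ⟨v, hv, rfl⟩ := List.mem_map.1 hw
      exact ⟨ew_mem v, fix1 v hv⟩) nd1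
  have s2 : (t2.map ew).length * Nat.card K3 ≤ Nat.card K2 := chain_step K2 2 (t2.map ew)
    (by
      intro w hw
      obtain ⟨v, hv, rfl⟩ := List.mem_map.1 hw
      exact ⟨⟨ew_mem v, (fix2 v hv).1⟩, (fix2 v hv).2⟩) nd2
  have s3 : (t3.map ew).length * Nat.card K4 ≤ Nat.card K3 := chain_step K3 3 (t3.map ew)
    (by
      intro w hw
      obtain ⟨v, hv, rfl⟩ := List.mem_map.1 hw
      exact ⟨⟨⟨ew_mem v, (fix3 v hv).1⟩, (fix3 v hv).2.1⟩, (fix3 v hv).2.2⟩) nd3
  have s4 : 1 ≤ Nat.card K4 := Nat.card_pos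
  have l0 : (t0.map ew).length = 11 := by rw [List.length_map]; rfl
  have l1 : (t1.map ew).length = 10 := by rw [List.length_map]; rfl
  have l2 : (t2.map ew).length = 9 := by rw [List.length_map]; rfl
  have l3 : (t3.map ew).length = 8 := by rw [List.length_map]; rfl
  rw [l0] at s0
  rw [l1] at s1
  rw [l2] at s2
  rw [l3] at s3
  change 7920 ≤ Nat.card K0
  omega

theorem card_eq : Nat.card (Subgroup.closure {pa, pb}) = 7920 :=
  le_antisymm (card_le rel0).2 le_card

theorem simple : IsSimpleGroup (Subgroup.closure {pa, pb}) :=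
  SporadicA.DegreePrime.isSimpleGroup_of_card_degree11 (Ω := Fin 11) (by simp) card_eq

/-- the two generators inside the group they generate -/
def qa : Subgroup.closure {pa, pb} := ⟨pa, Subgroup.subset_closure (by simp)⟩
def qb : Subgroup.closure {pa, pb} := ⟨pb, Subgroup.subset_closure (by simp)⟩

theorem rel1 : Rel qa qb := by
  constructor
  · exact Subtype.ext rel0.a2
  · exact Subtype.ext rel0.b4
  · exact Subtype.ext rel0.ab
  · exact Subtype.ext rel0.abb
  · exact Subtype.ext rel0.r5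

theorem closure_eq_top : Subgroup.closure {qa, qb} = ⊤ := by
  have h : (Subgroup.closure ({qa, qb} : Set (Subgroup.closure {pa, pb}))).map
      (Subgroup.closure {pa, pb}).subtype = (⊤ : Subgroup (Subgroup.closure {pa, pb})).map
      (Subgroup.closure {pa, pb}).subtype := by
    rw [MonoidHom.map_closure, Set.image_pair, ← MonoidHom.range_eq_map, Subgroup.range_subtype]
    rfl
  exact Subgroup.map_injective (Subgroup.subtype_injective _) h

/-- Two elements satisfying the relations, the first one not trivial, generate a simple group of order 7920. -/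
theorem isM11_closure {G : Type*} [Group G] {a b : G} (h : Rel a b) (ha : a ≠ 1) :
    Cfsg.IsM11 (Subgroup.closure {a, b}) := by
  have hs := simple
  have hc := card_eq
  obtain ⟨hf, hle⟩ := card_le (Rel.prod h rel1)
  have : Finite (Subgroup.closure {pa, pb}) := Nat.finite_of_card_ne_zero (by rw [hc]; norm_num)
  rw [← hc] at hle
  have := Transfer.simple_of_pairs hs closure_eq_top hf hle ha
  rw [hc] at this
  exact this

/-- All such groups are isomorphic to the model on 11 points. -/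
theorem nonempty_mulEquiv {G : Type*} [Group G] {a b : G} (h : Rel a b) (ha : a ≠ 1) :
    Nonempty (Subgroup.closure {a, b} ≃* Subgroup.closure {pa, pb}) := by
  have hs := simple
  have hc := card_eq
  obtain ⟨hf, hle⟩ := card_le (Rel.prod h rel1)
  have : Finite (Subgroup.closure {pa, pb}) := Nat.finite_of_card_ne_zero (by rw [hc]; norm_num)
  rw [← hc] at hle
  exact Transfer.equiv_of_pairs closure_eq_top hf hle ha

end Cfsg.Agent.SporadicB.AtlasPres.M11Rec
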