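import Cfsg.Agent.SporadicB.AtlasPres.J1BData

set_option autoImplicit false
set_option maxRecDepth 100000

namespace Cfsg.Agent.SporadicB.AtlasPres.J1BChk0

open Cfsg.Agent.SporadicRecognition.CosetCert Cfsg.Agent.SporadicB.AtlasPres.J1BData

theorem c0 : Part C 0 64 54 := runChunk_sound C 54 (by decide +kernel : runChunk C 11 2047 0x40040100200208c0000000000400000002000000000040064a49400208e524a40040043980200208c198020040040100300208c000000040040100200208c000000040045180300208c000b30000040000000208c618020040040108300208c0000200200801002002008010020000042180000208c01002688d100100100400800803004008010010040080080300400801001004008008030040080080200400800802004008010010040080080300400801001026008008030260080100100400800803004008010010a6008008030c600801001004008008030040040100200208c398020040043980200208c010020040040100200208c198020040042180200208c010020040040100200208c010020040040100200208c010020040080100100400800803004008010010040080080300400801001004008008030040040100200208c0100200200801002004008010010260140080300400801002 22 4194303 0x13ab176490dd92427000000000000000000000088bc1d83737000000000930000012c1176ec09c000000000014cb170000000000086a89c00000000000000000000000000000000000000000000000000000000000000000000000000000000000000000000000000000000000000000000000000000000000000000000000000000000000000000000000000000000000000000000000000000000000000000000000000000000000000000000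 0 64 = 55)

theorem c1 : Part C 64 83 6 := runChunk_sound C 6 (by decide +kernel : runChunk C 11 2047 0x4008010010a60080080300000000802004008010010a640c00803000000008000c650c01001000000008000000000100100000000803000000000010000000080000438c0100100000400000002000398020040040000000208c000000000040100000200000000 22 4194303 0x113000000000005f105c000000003580013600049a82c17a0b01c000005ca0dd728270003d9543377c98ddf2627 64 19 = 7)

theorem all : Part C 0 83 60 := (c0).append C c1

end Cfsg.Agent.SporadicB.AtlasPres.J1BChk0
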