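import Cfsg.Agent.SporadicRecognition.CosetCert

set_option autoImplicit false
set_option maxRecDepth 100000

namespace Cfsg.Agent.SporadicB.AtlasPres.J1BData

open Cfsg.Agent.SporadicRecognition.CosetCert

noncomputable def tree : Tr := (.N 48 (.N 16 (.L 0xffff180f16883320311f2ffff158817902e1e2d1d3ffff150d13872b1c2a1b2ffff1287148e281a27193ffff25182317120b10860ffff20161f150f86118c1ffff1d141c130f090d850ffff1a1219110c850e8a1ffff1710160f0c070a840ffff140e130d09840b881ffff09050783110c100b2ffff068308860e0a0d093ffff048106020b080a073ffff08060705040202810ffff05840181008103831ffff0202050403030102f) (.N 32 (.L 0xffff52345133341f32900ffff482d321a309033a01ffff4a2e301b2f1d2d8f0ffff4fb24eb12c8f2e9e1ffff4cb04baf2c1b2a8e0ffff2f9e49ae298e2b9c1ffff319f47ad2919278d0ffff462c452b268d289a1ffff2617248c432a42292ffff228c259838a324123ffff21151f8b3aa422132ffff1e8b209640283f273ffff1e131c8a3d263c252ffff1b8a1d9421963a243ffff1b111989239738232ffff18891a92362235213)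 (.L 0xffff4daf4c1c7b4d59b8282a94b1c4d30ffff7a4c3ffff491b4a9e784b774a3ffff471a489f76497548387a8ffff4599673fffff2ffff449946ac734760b43ffff5fa15f36442942980ffff72467045419843aa1ffff6e446d4341273f950ffff6b426a413e9540a81ffff684066bf3e253c940ffff65be64bd3b943da61ffff62bc61bb39933b161ffff5c3a5b39379239171ffff58385737372135910ffff55365435349136a21))) (.N 64 (.L 0xffff693f67a695d393d2288a7662668c0ffffffff38b20ffff6525ffffffff28ab46425ffffffffffff3ffff63bb6224912e90cb2ffff6124633c92bc922e3ffff5d395ba38dd15e392ffff5aa35cba5dba8d5138431593757a25a307bcd2859d56a258b8ffffffff3ffff563554a17fd07ecf25eaa53a155b6ffffffff3ffff533351a0602b73c728a2550a052b4ffff6bc238522ffff4f1dffffffff2ffff4e1d503270c57d4e3) (.N 80 (.L 0xffff86c781cf80cf7f360ffff81508bc77e368050184cdffffffff7cb1ffff1ffff945298537c387ab00822affffffff79afffff191bbffffffff794a77ae0903cffffffff76ae78cb18fb9ffffffffffff75ad08f3affffffff74adffff1ffff8c4f8650743472ab0839cffff71a9ffffffff283306fa9ffff7dce71313872b6f436da8ffffffff288196ca86ec4ffffffff389a6ffff6aa76c33ffff2894069a7ffffffffffff3)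 (.L 0xffff98cd97d296d295400ffff975394cd9340965318eadffffffff8cb98e3a1))))

noncomputable def wtree : WT := (.N 10 (.N 5 (.N 2 (.N 1 (.L 0 [1,1]) (.L 3 [2,2])) (.N 3 (.L 2 [3,3]) (.N 4 (.L 1 [3,0,3,0,3,0,3,0,3]) (.L 1 [2,1,3,1,2,0,2,1,3,1,2])))) (.N 7 (.N 6 (.L 3 [1,2,1,2,1,2,1,2,1]) (.L 3 [0,3,1,3,0,2,0,3,1,3,0])) (.N 8 (.L 1 [0,0]) (.N 9 (.L 0 [2,0,2,1,3,1,2,0,2,1,3]) (.L 4 [3,1,2,0,2,1,3,1,2,0,2,1]))))) (.N 15 (.N 12 (.N 11 (.L 1 [2,0,2,0,2,0,2,0,2,0,2,0,2,0,2,0,2,0,2,0,2]) (.L 0 [3,0,2,0,3,1,3,0,2,0,3])) (.N 13 (.L 1 [3,1,3,0,2,0,3,1,3,0,2]) (.N 14 (.L 4 [2,0,3,1,3,0,2,0,3,1,3,0]) (.L 2 [1,2,0,2,1,3,1,2,0,2,1])))) (.N 18 (.N 16 (.L 4 [1,2,0,2,0,3,1,2,0,2,0,3,1,2,0,2,0,3]) (.N 17 (.L 2 [1,3,1,3,1,3,1,3,1,3,1,3,1,3,1,3,1,3,1,3,1]) (.L 4 [1,3,0,2,0,3,1,3,0,2,0,3]))) (.N 19 (.L 4 [2,1,3,1,3,0,2,1,3,1,3,0,2,1,3,1,3,0]) (.N 20 (.L 4 [3,0,3,0,3,0,3,0,3,0]) (.L 2 [0,2,0,3,1,3,0,2,0,3,1]))))))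

noncomputable def stree : ST := (.L 2 [0] [])

noncomputable def C : Cert where
  data := tree
  lm := 15
  rb := 84
  fb := 16
  mask := 65535
  B := 128
  k := 4
  N := 83
  inv := fun x => bif Nat.beq x 0 then 1 else bif Nat.beq x 1 then 0 else bif Nat.beq x 2 then 3 else bif Nat.beq x 3 then 2 else x
  words := wtree
  subs := stree

def rels : List (List Nat) := [[0,0,0], [2,2,2], [0,3,0,3,0,3,0,3,0,3], [0,2,0,3,1,3,0,2,0,3,1,3], [0,2,0,3,1,2,0,2,0,3,1,2,0,2,0,3,1,2], [0,2,0,2,0,2,0,2,0,2,0,2,0,2,0,2,0,2,0,2,0,2]]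

def subw : List (List Nat) := [[0,2]]

end Cfsg.Agent.SporadicB.AtlasPres.J1BData
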